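import Cfsg.Agent.Helper19.J2G24.Hom
import Cfsg.Agent.Helper19.SchJ2.Tab

/-!
# Certificates for the subgroup `J₂` of `G₂(4)` and its suborbits on the 416 cosets

All Boolean checks of this development that are run by the kernel.
-/

set_option autoImplicit false
set_option linter.all false

namespace Cfsg.Agent.Helper19.J2G24

open Cfsg.Lie Cfsg.Agent.Helper19.Sp4 Cfsg.Agent.Helper22.PermPack Cfsg.Agent.Helper19.G24

/-- the table of a letter (`0 ↦ a`, `1 ↦ a⁻¹`, `2, 3 ↦ b`) -/
def LT (l : ℕ) : ℕ :=
  match l with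
  | 0 => tA
  | 1 => tAi
  | 2 => tB
  | 3 => tB
  | _ => idT

/-- the function of a word in the letters, in the convention of `prodw` -/
def lookW : List ℕ → ℕ → ℕ
  | [], i => i
  | l :: w, i => lookW w (slot 9 (LT l) i)

/-- a table is the product of a list of tables -/
def tabB (s : ℕ) (ts : List ℕ) : Bool :=
  withNat s fun s' => withList ts fun ts' =>
    allN 416 fun i => Nat.beq (slot 9 s' i) (compLook 9 ts' i)

theorem tabB_spec {s : ℕ} {ts : List ℕ} (h : tabB s ts = true) (i : ℕ) (hi : i < 416) :
    slot 9 s i = compLook 9 ts i := by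
  unfold tabB at h
  rw [withNat_eq, withList_eq] at h
  exact beq_iff.mp (allN_spec h i hi)

/-- the further tables are permutations -/
def chkGood2 : Bool := [tA, tAi, tB, sa0, sa1, sb0, sb1].all fun y => goodB 416 9 y

theorem chkGood2_true : chkGood2 = true := by decide +kernel

/-- the tables of `a`, `b` are the products of their words -/
def chkAB : Bool := tabB tA (tabsOf wa) && tabB tB (tabsOf wb)

theorem chkAB_true : chkAB = true := by decide +kernel

/-- `tAi` is inverse to `tA`, `tB` is an involution, `tA` is not the identity -/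
def chkInv : Bool := tabB idT [tA, tAi] && tabB idT [tB, tB] && !(tabB idT [tA])

theorem chkInv_true : chkInv = true := by decide +kernel

/-- the relators of the presentation of `J₂` hold -/
def chkRels : Bool := Cfsg.Agent.Helper19.SchJ2.rels.all fun w =>
  (w.all fun l => Nat.blt l 4) && allN 416 fun i => Nat.beq (lookW w i) i

theorem chkRels_true : chkRels = true := by decide +kernel

/-- the generators of the two-point stabilisers are words in `a`, `b` -/
def chkS : Bool := tabB sa0 (sa0w.map LT) && tabB sa1 (sa1w.map LT) &&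
  tabB sb0 (sb0w.map LT) && tabB sb1 (sb1w.map LT)

theorem chkS_true : chkS = true := by decide +kernel

/-- the fixed points of the generators -/
def chkFix : Bool := Nat.beq (slot 9 tA 0) 0 && Nat.beq (slot 9 tB 0) 0 &&
  Nat.beq (slot 9 sa0 y1) y1 && Nat.beq (slot 9 sa1 y1) y1 &&
  Nat.beq (slot 9 sb0 y2) y2 && Nat.beq (slot 9 sb1 y2) y2

theorem chkFix_true : chkFix = true := by decide +kernel

/-! ### the spanning forests -/

theorem tree0_true : treeB 416 9 Y0 c0_par c0_gi c0_dep c0_lab c0_root = true := by decide +kernel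

theorem tree1_true : treeB 416 9 [tA, tB] c1_par c1_gi c1_dep c1_lab c1_root = true := by
  decide +kernel

theorem tree2a_true : treeB 416 9 [sa0, sa1] c2a_par c2a_gi c2a_dep c2a_lab c2a_root = true := by
  decide +kernel

theorem tree2b_true : treeB 416 9 [sb0, sb1] c2b_par c2b_gi c2b_dep c2b_lab c2b_root = true := by
  decide +kernel

/-! ### the labels -/

/-- the labels of the first level are invariant under `a`, `b`; label `0` is the point `0`; the
roots -/
def chkLab1 : Bool :=
  (allN 416 fun i => Nat.beq (slot 9 c1_lab (slot 9 tA i)) (slot 9 c1_lab i) &&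
    Nat.beq (slot 9 c1_lab (slot 9 tB i)) (slot 9 c1_lab i) &&
    Nat.blt (slot 9 c1_lab i) 3 && (Nat.beq (slot 9 c1_lab i) 0 == Nat.beq i 0)) &&
  (allN 416 fun i => Nat.beq (slot 9 c0_lab i) 0) && Nat.beq (slot 9 c0_root 0) 0 &&
  Nat.beq (slot 9 c1_root 1) y1 && Nat.beq (slot 9 c1_root 2) y2 &&
  Nat.beq (slot 9 c1_lab y1) 1 && Nat.beq (slot 9 c1_lab y2) 2

theorem chkLab1_true : chkLab1 = true := by decide +kernel

/-- the labels of the second level: the suborbits inside the orbit of the base point carry the
small labels -/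
def chkLab2 : Bool :=
  (allN 416 fun i => (Nat.blt (slot 9 c2a_lab i) 3 == Nat.beq (slot 9 c1_lab i) 1) &&
    (Nat.blt (slot 9 c2b_lab i) 6 == Nat.beq (slot 9 c1_lab i) 2)) &&
  Nat.beq (slot 9 c2a_lab y1) 0 && Nat.beq (slot 9 c2b_lab y2) 0

theorem chkLab2_true : chkLab2 = true := by decide +kernel

/-- the number of the points below `n` with a given label -/
def cnt (lab j : ℕ) : ℕ := ((List.range 416).filter fun i => Nat.beq (slot 9 lab i) j).length

theorem cnt1 : [cnt c1_lab 0, cnt c1_lab 1, cnt c1_lab 2] = [1, 100, 315] := by decide +kernel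

theorem cnt2a : [cnt c2a_lab 0, cnt c2a_lab 1, cnt c2a_lab 2] = [1, 36, 63] := by decide +kernel

theorem cnt2b : [cnt c2b_lab 0, cnt c2b_lab 1, cnt c2b_lab 2, cnt c2b_lab 3, cnt c2b_lab 4,
    cnt c2b_lab 5] = [1, 10, 80, 160, 32, 32] := by decide +kernel

end Cfsg.Agent.Helper19.J2G24
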