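import Cfsg.Agent.Helper19.J2G24.Main

/-!
# `J₂ < G₂(4)`: the abstract statement and the statement for the Steinberg group
-/

set_option autoImplicit false
set_option linter.all false
set_option maxRecDepth 100000

namespace Cfsg.Agent.Helper19.J2G24

open Cfsg.Lie Cfsg.Agent.Helper19.Sp4 Cfsg.Agent.Helper22.PermPack Cfsg.Agent.Helper19.G24
open Cfsg.Agent.Helper19.TCS Cfsg.Agent.Helper19.Schur MulAction

universe u

section

variable {G : Type u} [Group G] [Finite G] (ρ : G →* Pm 416) [MulAction G (Fin 416)]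
  (hact : ∀ (g : G) (i : Fin 416), g • i = ρ g i)
  {a b : G} (H : Subgroup G) (hH : Subgroup.closure ({a, b} : Set G) = H)
  (hmap : ∀ h ∈ H, ρ h ∈ Subgroup.closure ({pA, pB} : Set (Pm 416)))
  (hlift : ∀ g ∈ Subgroup.closure ({pA, pB} : Set (Pm 416)), ∃ h ∈ H, ρ h = g)

include hact hmap hlift

/-- the second level: the stabiliser in `H` of a point is maximal in `H` -/
theorem level2 (p : Fin 416) (lab2 : Fin 416 → ℕ) (k c : ℕ) (ns : List ℕ)
    (hlab : ∀ i, lab2 i < k ↔ lab1 i = c) (hp : lab1 p = c) (hp0 : lab2 p = 0)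
    (hconn : ∀ i j, lab2 i = lab2 j →
      ∃ g ∈ Subgroup.closure ({pA, pB} : Set (Pm 416)), g p = p ∧ g i = j)
    (hcnt : ∀ j < k, {x : Fin 416 | lab2 x = j}.ncard = ns.getD j 0)
    (hne : Finset.range k ≠ {0}) (hpos : ∀ j ∈ Finset.range k, ns.getD j 0 ≠ 0)
    (harith : ∀ J ∈ (Finset.range k).powerset, 0 ∈ J →
      (∑ j ∈ J, ns.getD j 0) ∣ (∑ j ∈ Finset.range k, ns.getD j 0) →
        J = {0} ∨ J = Finset.range k) :
    IsCoatom (stabilizer ↥H p) := by
  have horb : ∀ x : Fin 416, x ∈ orbit ↥H p ↔ lab1 x = c := by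
    intro x
    constructor
    · rintro ⟨h, rfl⟩
      show lab1 ((h : G) • p) = c
      rw [hact, closure_lab1 _ (hmap h.1 h.2), hp]
    · intro hx
      obtain ⟨g, hg, hgx⟩ := conn1 p x (by rw [hp, hx])
      obtain ⟨h, hh, rfl⟩ := hlift g hg
      refine ⟨⟨h, hh⟩, ?_⟩
      show h • p = x
      rw [hact]
      exact hgx
  apply Cfsg.Agent.Helper22.MaxStab.isCoatom_stabilizer p lab2 (Finset.range k)
    (fun j => ns.getD j 0)
  · intro x hx
    rw [Finset.mem_range, hlab]
    exact (horb x).mp hx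
  · intro j hj
    rw [Finset.mem_range] at hj
    have e : {x | x ∈ orbit ↥H p ∧ lab2 x = j} = {x : Fin 416 | lab2 x = j} := by
      ext x
      simp only [Set.mem_ofPred_eq, and_iff_right_iff_imp]
      intro hx
      rw [horb, ← hlab, hx]
      exact hj
    rw [e]
    exact hcnt j hj
  · intro x _ y _ hxy
    obtain ⟨g, hg, hgp, hgx⟩ := hconn x y hxy
    obtain ⟨h, hh, rfl⟩ := hlift g hg
    refine ⟨⟨h, hh⟩, ?_, ?_⟩
    · show h • p = p
      rw [hact]
      exact hgp
    · show h • x = y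
      rw [hact]
      exact hgx
  · rw [hp0]
    exact hne
  · exact hpos
  · rw [hp0]
    exact harith

end

section

variable {G : Type u} [Group G] [Finite G] (ρ : G →* Pm 416) (hinj : Function.Injective ρ)
  (hcard : Nat.card G = 251596800) (hgen : ∀ y ∈ Y0, P 416 9 y ∈ ρ.range)

include hinj hcard hgen

theorem main_abstract : ∃ H : Subgroup G, IsCoatom H ∧ Cfsg.Spor.IsoJ2 H ∧
    ∀ x : G, x ∉ H → IsCoatom ((H ⊓ H.map (MulAut.conj x).toMonoidHom).subgroupOf H) := by
  classical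
  letI : MulAction G (Fin 416) := MulAction.compHom (Fin 416) ρ
  have hact : ∀ (g : G) (i : Fin 416), g • i = ρ g i := fun _ _ => rfl
  obtain ⟨a, b, ha, hb⟩ := exists_ab ρ hgen
  set H0 : Subgroup G := Subgroup.closure {a, b} with hH0
  set H : Subgroup G := stabilizer G p0 with hH
  have hlift0 := lift_closure ρ hinj ha hb
  have hmap0 : ∀ h ∈ H0, ρ h ∈ Subgroup.closure ({pA, pB} : Set (Pm 416)) := by
    intro h hh
    have hle : H0.map ρ ≤ Subgroup.closure ({pA, pB} : Set (Pm 416)) := by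
      rw [hH0, MonoidHom.map_closure, Set.image_pair, ha, hb]
    exact hle ⟨h, hh, rfl⟩
  have hH0H : H0 ≤ H := by
    intro h hh
    rw [hH, mem_stabilizer_iff, hact]
    exact closure_fix0 (hmap0 h hh)
  -- transitivity
  have htr : ∀ i : Fin 416, ∃ g : G, g • p0 = i := by
    intro i
    obtain ⟨g, hg, hgi⟩ := conn0 i
    obtain ⟨h, rfl⟩ := Grp0_le ρ hgen hg
    exact ⟨h, hgi⟩
  have horb : orbit G p0 = Set.univ := by
    ext i
    simp only [Set.mem_univ, iff_true]
    obtain ⟨g, hg⟩ := htr i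
    exact ⟨g, hg⟩
  -- the orders
  have hcH : Nat.card H = 604800 := by
    have h1 := MulAction.index_stabilizer G p0
    rw [horb, Set.ncard_univ, Nat.card_eq_fintype_card, Fintype.card_fin] at h1
    have h2 := Subgroup.card_mul_index H
    rw [hcard, hH, h1] at h2
    rw [hH]
    omega
  have hiso := isoJ2_closure ρ hinj ha hb
  have hcH0 : Nat.card H0 = 604800 := by
    obtain ⟨e⟩ := hiso
    rw [Nat.card_congr e.toEquiv, Cfsg.Agent.Helper22.Ico.card_J2]
  have hHH0 : H0 = H := Subgroup.eq_of_le_of_card_ge hH0H (by rw [hcH, hcH0])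
  have hmap : ∀ h ∈ H, ρ h ∈ Subgroup.closure ({pA, pB} : Set (Pm 416)) := by
    rw [← hHH0]
    exact hmap0
  have hlift : ∀ g ∈ Subgroup.closure ({pA, pB} : Set (Pm 416)), ∃ h ∈ H, ρ h = g := by
    rw [← hHH0]
    exact hlift0
  refine ⟨H, ?_, ?_, ?_⟩
  · -- maximality
    apply Cfsg.Agent.Helper22.MaxStab.isCoatom_stabilizer p0 lab1 (Finset.range 3)
      (fun j => [1, 100, 315].getD j 0)
    · intro x _
      rw [Finset.mem_range]
      exact (lab1_spec x).2.2.1
    · intro j hj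
      rw [Finset.mem_range] at hj
      have e : {x | x ∈ orbit G p0 ∧ lab1 x = j} = {x : Fin 416 | lab1 x = j} := by
        rw [horb]
        ext x
        simp
      rw [e]
      exact ncard_lab1 j hj
    · intro x _ y _ hxy
      obtain ⟨g, hg, hgx⟩ := conn1 x y hxy
      obtain ⟨h, hh, rfl⟩ := hlift g hg
      exact ⟨h, mem_stabilizer_iff.mp hh, hgx⟩
    · rw [lab1_p0]
      decide
    · decide
    · rw [lab1_p0]
      decide
  · rw [← hHH0]
    exact hiso
  · intro x hx
    have hy0 : x • p0 ≠ p0 := fun h => hx (mem_stabilizer_iff.mpr h)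
    have e1 : H.map (MulAut.conj x).toMonoidHom = stabilizer G (x • p0) :=
      (stabilizer_smul_eq_stabilizer_map_conj x p0).symm
    rw [e1, Subgroup.inf_subgroupOf_left, ← Cfsg.Agent.Helper22.MaxStab.stabilizer_subgroup_eq]
    have hl := lab1_spec (x • p0)
    have hcase : lab1 (x • p0) = 1 ∨ lab1 (x • p0) = 2 := by
      have h3 := hl.2.2.1
      have h0 : lab1 (x • p0) ≠ 0 := fun h => hy0 (hl.2.2.2.mp h)
      omega
    rcases hcase with h1 | h2
    · obtain ⟨g, hg, hgy⟩ := conn1 p1 (x • p0) (by rw [lab1_p1, h1])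
      obtain ⟨h, hh, rfl⟩ := hlift g hg
      have e2 : x • p0 = (⟨h, hh⟩ : ↥H) • p1 := hgy.symm
      rw [e2, stabilizer_smul_eq_stabilizer_map_conj]
      apply (OrderIso.isCoatom_iff (MulEquiv.mapSubgroup (MulAut.conj (⟨h, hh⟩ : ↥H))) _).mpr
      exact level2 ρ hact H hmap hlift p1 lab2a 3 1 [1, 36, 63]
        (fun i => (lab2_spec i).1) lab1_p1 lab2a_p1 conn2a ncard_lab2a
        (by decide) (by decide) (by decide)
    · obtain ⟨g, hg, hgy⟩ := conn1 p2 (x • p0) (by rw [lab1_p2, h2])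
      obtain ⟨h, hh, rfl⟩ := hlift g hg
      have e2 : x • p0 = (⟨h, hh⟩ : ↥H) • p2 := hgy.symm
      rw [e2, stabilizer_smul_eq_stabilizer_map_conj]
      apply (OrderIso.isCoatom_iff (MulEquiv.mapSubgroup (MulAut.conj (⟨h, hh⟩ : ↥H))) _).mpr
      exact level2 ρ hact H hmap hlift p2 lab2b 6 2 [1, 10, 80, 160, 32, 32]
        (fun i => (lab2_spec i).2) lab1_p2 lab2b_p2 conn2b ncard_lab2b
        (by decide) (by decide) (by decide)

end

end Cfsg.Agent.Helper19.J2G24
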