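import Cfsg.Agent.Helper19.J2G24.RelsP
import Cfsg.Agent.Helper19.G24.Iso

/-!
# The action of `G₂(4)` on 416 points: the homomorphism from the Steinberg group
-/

set_option autoImplicit false
set_option linter.all false

namespace Cfsg.Agent.Helper19.J2G24

open Cfsg.Lie Cfsg.Agent.Helper19.Sp4 Cfsg.Agent.Helper22.PermPack Cfsg.Agent.Helper19.G24

theorem chkP2_all : ∀ r < 12, chkP2 r = true := by
  intro r hr
  interval_cases r
  · exact chkP2_0
  · exact chkP2_1
  · exact chkP2_2
  · exact chkP2_3
  · exact chkP2_4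
  · exact chkP2_5
  · exact chkP2_6
  · exact chkP2_7
  · exact chkP2_8
  · exact chkP2_9
  · exact chkP2_10
  · exact chkP2_11

/-! ### goodness of the tables -/

theorem idT_good : Good 416 9 idT := by
  have h := chkGood_true
  unfold chkGood at h
  rw [Bool.and_eq_true] at h
  exact good_of_goodB h.1

theorem Y0_good : ∀ y ∈ Y0, Good 416 9 y := by
  intro y hy
  have h := chkGood_true
  unfold chkGood at h
  rw [Bool.and_eq_true] at h
  exact good_of_goodB (List.all_eq_true.mp h.2 y hy)

/-- the list of the generator tables, through `tab` -/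
def Y0' : List ℕ := (List.range 12).flatMap fun r => [tab r F4.i, tab r F4.w, tab r F4.v]

theorem Y0_eq : Y0 = Y0' := by decide +kernel

theorem tab_of_ge {r : ℕ} (hr : ¬ r < 12) (t : F4) : tab r t = idT := by
  unfold tab
  split <;> first | rfl | (exfalso; omega)

theorem tab_zero (r : ℕ) : tab r F4.o = idT := by
  unfold tab
  split <;> first | rfl | (exfalso; simp_all)

theorem tab_mem_Y0 {r : ℕ} (hr : r < 12) {t : F4} (ht : t ≠ F4.o) : tab r t ∈ Y0 := by
  rw [Y0_eq]
  unfold Y0'
  rw [List.mem_flatMap]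
  refine ⟨r, List.mem_range.mpr hr, ?_⟩
  cases t
  · exact absurd rfl ht
  · simp
  · simp
  · simp

theorem tab_good (r : ℕ) (t : F4) : Good 416 9 (tab r t) := by
  by_cases hr : r < 12
  · by_cases ht : t = F4.o
    · rw [ht, tab_zero]
      exact idT_good
    · exact Y0_good _ (tab_mem_Y0 hr ht)
  · rw [tab_of_ge hr]
    exact idT_good

theorem tabsOf_good (w : List (ℕ × F4)) : ∀ t ∈ tabsOf w, Good 416 9 t := by
  intro t ht
  unfold tabsOf at ht
  rw [List.mem_map] at ht
  obtain ⟨p, -, rfl⟩ := ht
  exact tab_good _ _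

/-- the identity table -/
def chkId : Bool := allN 416 fun i => Nat.beq (slot 9 idT i) i

theorem chkId_true : chkId = true := by decide +kernel

theorem idT_look : ∀ i < 416, slot 9 idT i = i := fun i hi => beq_iff.mp (allN_spec chkId_true i hi)

theorem P_idT_eq : P 416 9 idT = 1 := P_idT idT_look idT_good

/-! ### the permutations -/

/-- the permutation of the root element `x_r(t)` -/
noncomputable def PX (r : ℕ) (t : F4) : Pm 416 := P 416 9 (tab r t)

/-- the permutation of a word -/
noncomputable def wP (w : List (ℕ × F4)) : Pm 416 := (w.map fun p => PX p.1 p.2).prod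

theorem wP_eq (w : List (ℕ × F4)) : wP w = ((tabsOf w).map (P 416 9)).prod := by
  unfold wP tabsOf
  induction w with
  | nil => rfl
  | cons a w ih =>
    rw [List.map_cons, List.prod_cons, ih, List.map_cons, List.map_cons, List.prod_cons]
    rfl

theorem wP_append (v w : List (ℕ × F4)) : wP (v ++ w) = wP v * wP w := by
  unfold wP
  rw [List.map_append, List.prod_append]

theorem wP_of_eqB {v w : List (ℕ × F4)} (h : eqB 416 9 (tabsOf v) (tabsOf w) = true) :
    wP v = wP w := by
  rw [wP_eq, wP_eq]
  exact prod_eq_prod (tabsOf_good v) (tabsOf_good w) (eqB_spec h)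

theorem PX_of_ge {r : ℕ} (hr : ¬ r < 12) (t : F4) : PX r t = 1 := by
  unfold PX
  rw [tab_of_ge hr, P_idT_eq]

theorem PX_zero (r : ℕ) : PX r 0 = 1 := by
  unfold PX
  have : (0 : F4) = F4.o := rfl
  rw [this, tab_zero, P_idT_eq]

theorem PX_add (r : ℕ) (a b : F4) : PX r a * PX r b = PX r (a + b) := by
  by_cases hr : r < 12
  · have h := (allF4_iff _).mp ((allF4_iff _).mp ((all12_iff _).mp chkP1_true r hr) a) b
    have h2 := wP_of_eqB (v := [(r, a), (r, b)]) (w := [(r, a + b)]) h
    unfold wP at h2
    simpa using h2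
  · rw [PX_of_ge hr, PX_of_ge hr, PX_of_ge hr, mul_one]

theorem add_self_F4 (a : F4) : a + a = 0 := by cases a <;> rfl

theorem PX_sq (r : ℕ) (t : F4) : PX r t * PX r t = 1 := by
  rw [PX_add, add_self_F4, PX_zero]

theorem PX_inv (r : ℕ) (t : F4) : (PX r t)⁻¹ = PX r t :=
  inv_eq_of_mul_eq_one_right (PX_sq r t)

/-- images of the generators -/
noncomputable def genP (p : Fin chevG2.nroots × F4) : Pm 416 := PX p.1.val p.2

/-- the homomorphism on the free group -/
noncomputable def liftP : FreeGroup (Fin chevG2.nroots × F4) →* Pm 416 := FreeGroup.lift genP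

theorem liftP_stX (r : ℕ) (t : F4) : liftP (chevG2.stX r t) = PX r t := by
  unfold ChevalleyDatum.stX
  by_cases h : r < chevG2.nroots
  · rw [dif_pos h]
    unfold liftP
    rw [FreeGroup.lift_apply_of]
    rfl
  · rw [dif_neg h, map_one]
    have h' : ¬ r < 12 := by rw [nroots_eq] at h; exact h
    rw [PX_of_ge h']

theorem liftP_stWord (w : List (ℕ × F4)) : liftP (chevG2.stWord w) = wP w := by
  unfold ChevalleyDatum.stWord wP
  induction w with
  | nil => simp
  | cons a w ih =>
    rw [List.map_cons, List.prod_cons, map_mul, ih, liftP_stX, List.map_cons, List.prod_cons]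

theorem liftP_stH (r : ℕ) (t : F4) : liftP (chevG2.stH r t) = wP (chevG2.hWord r t) :=
  liftP_stWord _

theorem relP_R2 {r s : ℕ} (hr : r < 12) (hs : s < 12) (hsr : s ≠ r) (hsn : s ≠ chevG2.neg r)
    (t u : F4) :
    PX s u * PX r t * PX s u * PX r t = wP (chevG2.commWord F4 r s t u) := by
  have h := (all12_iff _).mp (chkP2_all r hr) s hs
  rw [Bool.or_eq_true, Bool.or_eq_true] at h
  rcases h with (h | h) | h
  · exact absurd (by simpa using h) hsr
  · exact absurd (by simpa using h) hsn
  · have h2 := (allF4_iff _).mp ((allF4_iff _).mp h t) u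
    rw [← wP_of_eqB h2]
    unfold wP
    simp only [List.map_cons, List.map_nil, List.prod_cons, List.prod_nil, mul_one, mul_assoc]

theorem relP_R3 {r : ℕ} (hr : r < 12) {a b : F4} (ha : a ≠ 0) (hb : b ≠ 0) :
    wP (chevG2.hWord r a) * wP (chevG2.hWord r b) = wP (chevG2.hWord r (a * b)) := by
  have h := (allF4_iff _).mp ((allF4_iff _).mp ((all12_iff _).mp chkP3_true r hr) a) b
  rw [Bool.or_eq_true, Bool.or_eq_true] at h
  rcases h with (h | h) | h
  · exact absurd (by simpa using h) ha
  · exact absurd (by simpa using h) hb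
  · rw [← wP_append]
    exact wP_of_eqB h

theorem liftP_rels : ∀ g ∈ chevG2.steinbergRels F4, liftP g = 1 := by
  intro g hg
  rcases hg with (⟨r, a, b, hr, rfl⟩ | ⟨r, s, t, u, hr, hs, hsr, hsn, rfl⟩) | ⟨r, a, b, hr, ha, hb, rfl⟩
  · rw [map_mul, map_mul, map_inv, liftP_stX, liftP_stX, liftP_stX, PX_add, mul_inv_cancel]
  · rw [nroots_eq] at hr hs
    rw [map_mul, map_mul, map_mul, map_mul, map_inv, map_inv, map_inv, liftP_stX, liftP_stX,
      liftP_stWord, PX_inv, PX_inv, relP_R2 hr hs hsr hsn, mul_inv_cancel]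
  · rw [nroots_eq] at hr
    rw [map_mul, map_mul, map_inv, liftP_stH, liftP_stH, liftP_stH, relP_R3 hr ha hb,
      mul_inv_cancel]

/-- the permutation representation of the Steinberg group on 416 points -/
noncomputable def rhoP : St →* Pm 416 := PresentedGroup.toGroup liftP_rels

theorem rhoP_stGen (r : ℕ) (t : F4) : rhoP (chevG2.stGen F4 r t) = PX r t := by
  unfold rhoP ChevalleyDatum.stGen
  have : (PresentedGroup.toGroup liftP_rels)
      (PresentedGroup.mk (chevG2.steinbergRels F4) (chevG2.stX r t)) = liftP (chevG2.stX r t) := rfl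
  rw [this, liftP_stX]

theorem allN_of_forall {n : ℕ} {f : ℕ → Bool} (h : ∀ i < n, f i = true) : allN n f = true := by
  induction n with
  | zero => rfl
  | succ n ih =>
    rw [allN_succ, Bool.and_eq_true]
    exact ⟨h n (Nat.lt_succ_self n), ih fun i hi => h i (Nat.lt_succ_of_lt hi)⟩

/-- the table `T6_1` moves a point -/
def chkMove : Bool := !(allN 416 fun i => Nat.beq (slot 9 (tab 6 F4.i) i) i)

theorem chkMove_true : chkMove = true := by decide +kernel

theorem rhoP_injective : Function.Injective rhoP := by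
  rw [← MonoidHom.ker_eq_bot_iff]
  haveI := simple_St
  rcases (MonoidHom.normal_ker rhoP).eq_bot_or_eq_top with h | h
  · exact h
  · exfalso
    have h1 : chevG2.stGen F4 6 F4.i ∈ rhoP.ker := by rw [h]; trivial
    rw [MonoidHom.mem_ker, rhoP_stGen] at h1
    have h2 : Rep (slot 9 (tab 6 F4.i)) (PX 6 F4.i) := rep_P (tab_good 6 F4.i)
    rw [h1] at h2
    have h3 := chkMove_true
    unfold chkMove at h3
    rw [Bool.not_eq_true'] at h3
    have h4 : (allN 416 fun i => Nat.beq (slot 9 (tab 6 F4.i) i) i) = true := by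
      apply allN_of_forall
      intro i hi
      rw [beq_iff]
      exact (h2 ⟨i, hi⟩).symm
    rw [h4] at h3
    exact absurd h3 (by decide)

end Cfsg.Agent.Helper19.J2G24
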