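import Cfsg.Agent.Helper19.J2G24.Sub
import Cfsg.Agent.Helper22.MaxStab

/-!
# `J₂` is a maximal subgroup of `G₂(4)` and the action on its cosets is extremely primitive

The abstract form: `G` is a finite group of order `251596800` with an injective homomorphism `ρ`
to the permutations of 416 points whose image contains the 36 generating permutations.
-/

set_option autoImplicit false
set_option linter.all false
set_option maxRecDepth 100000

namespace Cfsg.Agent.Helper19.J2G24

open Cfsg.Lie Cfsg.Agent.Helper19.Sp4 Cfsg.Agent.Helper22.PermPack Cfsg.Agent.Helper19.G24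
open Cfsg.Agent.Helper19.TCS Cfsg.Agent.Helper19.Schur MulAction

universe u

/-- the labels of the first level -/
def lab1 (i : Fin 416) : ℕ := slot 9 c1_lab i.1
/-- the labels of the suborbits of the stabiliser of `y1` -/
def lab2a (i : Fin 416) : ℕ := slot 9 c2a_lab i.1
/-- the labels of the suborbits of the stabiliser of `y2` -/
def lab2b (i : Fin 416) : ℕ := slot 9 c2b_lab i.1

def p0 : Fin 416 := ⟨0, by norm_num⟩
def p1 : Fin 416 := ⟨y1, by decide⟩
def p2 : Fin 416 := ⟨y2, by decide⟩

theorem lab1_spec (i : Fin 416) :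
    lab1 (pA i) = lab1 i ∧ lab1 (pB i) = lab1 i ∧ lab1 i < 3 ∧ (lab1 i = 0 ↔ i = p0) := by
  have h := chkLab1_true
  unfold chkLab1 at h
  simp only [Bool.and_eq_true] at h
  have hi := allN_spec h.1.1.1.1.1.1 i.1 i.2
  simp only [Bool.and_eq_true, beq_iff, blt_iff, beq_iff_eq] at hi
  obtain ⟨⟨⟨h1, h2⟩, h3⟩, h4⟩ := hi
  have eA : (pA i).1 = slot 9 tA i.1 := rep_P tA_good i
  have eB : (pB i).1 = slot 9 tB i.1 := rep_P tB_good i
  refine ⟨?_, ?_, h3, ?_⟩
  · unfold lab1
    rw [eA]
    exact h1
  · unfold lab1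
    rw [eB]
    exact h2
  · unfold lab1
    constructor
    · intro h0
      have : Nat.beq i.1 0 = true := by rw [← h4, beq_iff]; exact h0
      exact Fin.ext (beq_iff.mp this)
    · intro h0
      have : Nat.beq i.1 0 = true := by rw [beq_iff, h0]; rfl
      rw [← h4, beq_iff] at this
      exact this

theorem lab1_p1 : lab1 p1 = 1 := by
  have h := chkLab1_true
  unfold chkLab1 at h
  simp only [Bool.and_eq_true, beq_iff] at h
  exact h.1.2

theorem lab1_p2 : lab1 p2 = 2 := by
  have h := chkLab1_true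
  unfold chkLab1 at h
  simp only [Bool.and_eq_true, beq_iff] at h
  exact h.2

theorem lab1_p0 : lab1 p0 = 0 := (lab1_spec p0).2.2.2.2 rfl

theorem lab2_spec (i : Fin 416) : (lab2a i < 3 ↔ lab1 i = 1) ∧ (lab2b i < 6 ↔ lab1 i = 2) := by
  have h := chkLab2_true
  unfold chkLab2 at h
  simp only [Bool.and_eq_true] at h
  have hi := allN_spec h.1.1 i.1 i.2
  simp only [Bool.and_eq_true, beq_iff_eq] at hi
  unfold lab2a lab2b lab1
  constructor
  · rw [← blt_iff, ← beq_iff, hi.1]
  · rw [← blt_iff, ← beq_iff, hi.2]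

theorem lab2a_p1 : lab2a p1 = 0 := by
  have h := chkLab2_true
  unfold chkLab2 at h
  simp only [Bool.and_eq_true, beq_iff] at h
  exact h.1.2

theorem lab2b_p2 : lab2b p2 = 0 := by
  have h := chkLab2_true
  unfold chkLab2 at h
  simp only [Bool.and_eq_true, beq_iff] at h
  exact h.2

/-- elements of the group generated by the permutations of `a`, `b` preserve the labels and fix
the point `0` -/
theorem closure_lab1 : ∀ g ∈ Subgroup.closure ({pA, pB} : Set (Pm 416)), ∀ i, lab1 (g i) = lab1 i := by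
  intro g hg
  induction hg using Subgroup.closure_induction with
  | mem x hx =>
    intro i
    simp only [Set.mem_insert_iff, Set.mem_singleton_iff] at hx
    rcases hx with rfl | rfl
    · exact (lab1_spec i).1
    · exact (lab1_spec i).2.1
  | one => intro i; rfl
  | mul x y _ _ hx hy =>
    intro i
    show lab1 (x (y i)) = lab1 i
    rw [hx, hy]
  | inv x _ hx =>
    intro i
    have := hx (x⁻¹ i)
    have e : x (x⁻¹ i) = i := by
      rw [← Equiv.Perm.mul_apply, mul_inv_cancel, Equiv.Perm.one_apply]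
    rw [e] at this
    exact this.symm

theorem closure_fix0 {g : Pm 416} (hg : g ∈ Subgroup.closure ({pA, pB} : Set (Pm 416))) :
    g p0 = p0 := by
  have h := closure_lab1 g hg p0
  rw [lab1_p0] at h
  exact (lab1_spec _).2.2.2.1 h

theorem Grp_sa_fix : ∀ g ∈ Grp 416 9 [sa0, sa1], g p1 = p1 := by
  have h := chkFix_true
  unfold chkFix at h
  simp only [Bool.and_eq_true, beq_iff] at h
  apply Grp_fix (fun y hy => good2 y (by simp at hy ⊢; tauto)) (by decide : y1 < 416)
  intro y hy
  simp only [List.mem_cons, List.not_mem_nil, or_false] at hy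
  rcases hy with rfl | rfl
  · exact h.1.1.1.2
  · exact h.1.1.2

theorem Grp_sb_fix : ∀ g ∈ Grp 416 9 [sb0, sb1], g p2 = p2 := by
  have h := chkFix_true
  unfold chkFix at h
  simp only [Bool.and_eq_true, beq_iff] at h
  apply Grp_fix (fun y hy => good2 y (by simp at hy ⊢; tauto)) (by decide : y2 < 416)
  intro y hy
  simp only [List.mem_cons, List.not_mem_nil, or_false] at hy
  rcases hy with rfl | rfl
  · exact h.1.2
  · exact h.2

/-! ### connectivity -/

theorem conn0 (i : Fin 416) : ∃ g ∈ Grp 416 9 Y0, g p0 = i := by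
  have h := chkLab1_true
  unfold chkLab1 at h
  simp only [Bool.and_eq_true] at h
  have hl : ∀ j : Fin 416, slot 9 c0_lab j.1 = 0 := fun j => beq_iff.mp (allN_spec h.1.1.1.1.1.2 j.1 j.2)
  exact tree_conn Y0_good tree0_true p0 i (by rw [hl, hl])

theorem conn1 (i j : Fin 416) (hij : lab1 i = lab1 j) :
    ∃ g ∈ Subgroup.closure ({pA, pB} : Set (Pm 416)), g i = j := by
  obtain ⟨g, hg, hgi⟩ := tree_conn (Y := [tA, tB])
    (fun y hy => good2 y (by simp at hy ⊢; tauto)) tree1_true i j hij
  exact ⟨g, Grp_AB_le hg, hgi⟩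

theorem conn2a (i j : Fin 416) (hij : lab2a i = lab2a j) :
    ∃ g ∈ Subgroup.closure ({pA, pB} : Set (Pm 416)), g p1 = p1 ∧ g i = j := by
  obtain ⟨g, hg, hgi⟩ := tree_conn (Y := [sa0, sa1])
    (fun y hy => good2 y (by simp at hy ⊢; tauto)) tree2a_true i j hij
  exact ⟨g, Grp_sa_le hg, Grp_sa_fix g hg, hgi⟩

theorem conn2b (i j : Fin 416) (hij : lab2b i = lab2b j) :
    ∃ g ∈ Subgroup.closure ({pA, pB} : Set (Pm 416)), g p2 = p2 ∧ g i = j := by
  obtain ⟨g, hg, hgi⟩ := tree_conn (Y := [sb0, sb1])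
    (fun y hy => good2 y (by simp at hy ⊢; tauto)) tree2b_true i j hij
  exact ⟨g, Grp_sb_le hg, Grp_sb_fix g hg, hgi⟩

/-! ### the numbers of points with a given label -/

theorem ncard_lab1 (j : ℕ) (hj : j < 3) :
    {x : Fin 416 | lab1 x = j}.ncard = [1, 100, 315].getD j 0 := by
  have h1 : {x : Fin 416 | lab1 x = j} = ↑(Finset.univ.filter fun x : Fin 416 => lab1 x = j) := by
    ext x
    simp
  rw [h1, Set.ncard_coe_finset]
  interval_cases j <;> decide +kernel

theorem ncard_lab2a (j : ℕ) (hj : j < 3) :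
    {x : Fin 416 | lab2a x = j}.ncard = [1, 36, 63].getD j 0 := by
  have h1 : {x : Fin 416 | lab2a x = j} = ↑(Finset.univ.filter fun x : Fin 416 => lab2a x = j) := by
    ext x
    simp
  rw [h1, Set.ncard_coe_finset]
  interval_cases j <;> decide +kernel

theorem ncard_lab2b (j : ℕ) (hj : j < 6) :
    {x : Fin 416 | lab2b x = j}.ncard = [1, 10, 80, 160, 32, 32].getD j 0 := by
  have h1 : {x : Fin 416 | lab2b x = j} = ↑(Finset.univ.filter fun x : Fin 416 => lab2b x = j) := by
    ext x
    simp
  rw [h1, Set.ncard_coe_finset]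
  interval_cases j <;> decide +kernel

end Cfsg.Agent.Helper19.J2G24
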