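import Cfsg.Agent.Helper22.PermPack

/-!
# Spanning forests for packed permutation tables

A certificate (parent, generator, depth, label, root tables) that every point is joined to the
root of its label by a product of the given tables; products of tables.
-/

set_option autoImplicit false
set_option linter.all false

namespace Cfsg.Agent.Helper19.J2G24

open Cfsg.Agent.Helper22.PermPack

/-- the check of a spanning forest -/
def treeB (n w : ℕ) (Y : List ℕ) (par gi dep lab root : ℕ) : Bool :=
  allN n fun i => withNat (slot w lab i) fun l =>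
    (Nat.beq (slot w dep i) 0 && Nat.beq i (slot w root l)) ||
    withNat (slot w par i) fun p =>
      Nat.blt p n && Nat.beq (Nat.succ (slot w dep p)) (slot w dep i) && Nat.beq (slot w lab p) l &&
        Nat.blt (slot w gi i) Y.length && Nat.beq (slot w (Y.getD (slot w gi i) 0) p) i

theorem tree_sound {n w : ℕ} {Y : List ℕ} (hY : ∀ y ∈ Y, Good n w y) {par gi dep lab root : ℕ}
    (h : treeB n w Y par gi dep lab root = true) :
    ∀ (d i : ℕ) (hi : i < n), slot w dep i = d →
      ∃ hr : slot w root (slot w lab i) < n, ∃ g ∈ Grp n w Y,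
        g ⟨slot w root (slot w lab i), hr⟩ = ⟨i, hi⟩ := by
  intro d
  induction d using Nat.strong_induction_on with
  | _ d ih =>
    intro i hi hd
    have hc := allN_spec h i hi
    rw [withNat_eq, Bool.or_eq_true] at hc
    rcases hc with hc | hc
    · rw [Bool.and_eq_true, beq_iff, beq_iff] at hc
      have hr : slot w root (slot w lab i) < n := by rw [← hc.2]; exact hi
      refine ⟨hr, 1, Subgroup.one_mem _, ?_⟩
      apply Fin.ext
      show slot w root (slot w lab i) = i
      exact hc.2.symm
    · rw [withNat_eq] at hc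
      simp only [Bool.and_eq_true, blt_iff, beq_iff] at hc
      obtain ⟨⟨⟨⟨hp, hdep⟩, hlab⟩, hgi⟩, hy⟩ := hc
      have hlt : slot w dep (slot w par i) < d := by rw [← hd, ← hdep]; exact Nat.lt_succ_self _
      obtain ⟨hr, g, hg, hgp⟩ := ih _ hlt (slot w par i) hp rfl
      have hymem : Y.getD (slot w gi i) 0 ∈ Y := by
        rw [List.getD_eq_getElem _ _ hgi]
        exact List.getElem_mem hgi
      have hr' : slot w root (slot w lab i) < n := by rw [← hlab]; exact hr
      refine ⟨hr', P n w (Y.getD (slot w gi i) 0) * g,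
        Subgroup.mul_mem _ (P_mem_Grp hymem) hg, ?_⟩
      have e : (⟨slot w root (slot w lab i), hr'⟩ : Fin n) =
          ⟨slot w root (slot w lab (slot w par i)), hr⟩ := by
        apply Fin.ext
        show slot w root (slot w lab i) = slot w root (slot w lab (slot w par i))
        rw [hlab]
      rw [e]
      show P n w (Y.getD (slot w gi i) 0) (g _) = _
      rw [hgp]
      apply Fin.ext
      rw [rep_P (hY _ hymem)]
      exact hy

/-- two points with the same label are joined by an element of the group of the tables -/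
theorem tree_conn {n w : ℕ} {Y : List ℕ} (hY : ∀ y ∈ Y, Good n w y) {par gi dep lab root : ℕ}
    (h : treeB n w Y par gi dep lab root = true) (i j : Fin n)
    (hij : slot w lab i.1 = slot w lab j.1) : ∃ g ∈ Grp n w Y, g i = j := by
  obtain ⟨hr, g, hg, hgi⟩ := tree_sound hY h _ i.1 i.2 rfl
  obtain ⟨hr', g', hg', hgj⟩ := tree_sound hY h _ j.1 j.2 rfl
  refine ⟨g' * g⁻¹, Subgroup.mul_mem _ hg' (Subgroup.inv_mem _ hg), ?_⟩
  have e : (⟨slot w root (slot w lab i.1), hr⟩ : Fin n) = ⟨slot w root (slot w lab j.1), hr'⟩ := by
    apply Fin.ext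
    show slot w root (slot w lab i.1) = slot w root (slot w lab j.1)
    rw [hij]
  have hi' : g⁻¹ i = ⟨slot w root (slot w lab i.1), hr⟩ := by
    rw [Equiv.Perm.inv_eq_iff_eq]
    exact hgi.symm
  show g' (g⁻¹ i) = j
  rw [hi', e, hgj]

/-- the product of the permutations of a list of tables is described by `compLook` -/
theorem rep_compLook {n w : ℕ} : ∀ {ts : List ℕ}, (∀ t ∈ ts, Good n w t) →
    Rep (n := n) (compLook w ts) ((ts.map (P n w)).prod)
  | [], _ => by
    rw [List.map_nil, List.prod_nil]
    exact rep_one
  | t :: ts, h => by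
    rw [List.map_cons, List.prod_cons]
    exact rep_congr (rep_mul (rep_P (h t List.mem_cons_self))
      (rep_compLook fun t' ht' => h t' (List.mem_cons_of_mem _ ht'))) (fun _ _ => rfl)

theorem P_eq_prod {n w : ℕ} {ts : List ℕ} (hts : ∀ t ∈ ts, Good n w t) {s : ℕ} (hs : Good n w s)
    (h : ∀ i < n, slot w s i = compLook w ts i) : P n w s = (ts.map (P n w)).prod :=
  rep_unique (rep_P hs) (rep_congr (rep_compLook hts) h)

theorem prod_eq_prod {n w : ℕ} {ts us : List ℕ} (hts : ∀ t ∈ ts, Good n w t)
    (hus : ∀ t ∈ us, Good n w t) (h : ∀ i < n, compLook w ts i = compLook w us i) :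
    (ts.map (P n w)).prod = (us.map (P n w)).prod :=
  rep_unique (rep_compLook hts) (rep_congr (rep_compLook hus) h)

/-- the pointwise comparison of two products of tables -/
def eqB (n w : ℕ) (ts us : List ℕ) : Bool :=
  withList ts fun ts' => withList us fun us' =>
    allN n fun i => Nat.beq (compLook w ts' i) (compLook w us' i)

theorem eqB_spec {n w : ℕ} {ts us : List ℕ} (h : eqB n w ts us = true) (i : ℕ) (hi : i < n) :
    compLook w ts i = compLook w us i := by
  unfold eqB at h
  rw [withList_eq, withList_eq] at h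
  exact beq_iff.mp (allN_spec h i hi)

theorem P_idT {n w idT : ℕ} (h : ∀ i < n, slot w idT i = i) (hg : Good n w idT) : P n w idT = 1 :=
  rep_unique (rep_P hg) (rep_congr rep_one h)

theorem P_inv_of {n w s t : ℕ} (hs : Good n w s) (ht : Good n w t)
    (h : ∀ i < n, slot w s (slot w t i) = i) : P n w t = (P n w s)⁻¹ := by
  have h1 : P n w s * P n w t = 1 :=
    rep_unique (rep_mul (rep_P hs) (rep_P ht)) (rep_congr rep_one h)
  exact eq_inv_of_mul_eq_one_right h1

end Cfsg.Agent.Helper19.J2G24
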