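import Mathlib
import Cfsg.Prelude.Def_Steinberg
import Cfsg.Prelude.Def_ChevG2
import Cfsg.Agent.Helper19.J2G24.Tree
import Cfsg.Agent.Helper19.J2G24.Data
import Cfsg.Agent.Helper19.G24.Rep6

/-!
# The permutations of the 416 cosets: goodness of the tables and the checks of Steinberg's relations
-/

set_option autoImplicit false
set_option linter.all false

namespace Cfsg.Agent.Helper19.J2G24

open Cfsg.Lie Cfsg.Agent.Helper19.Sp4 Cfsg.Agent.Helper22.PermPack Cfsg.Agent.Helper19.G24

/-- the tables of a word in the root elements -/
def tabsOf (w : List (ℕ × F4)) : List ℕ := w.map fun p => tab p.1 p.2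

/-- (R1) additivity -/
def chkP1 : Bool := all12 fun r => allF4 fun a => allF4 fun b =>
  eqB 416 9 [tab r a, tab r b] [tab r (a + b)]

/-- (R2) the commutator formula, for a fixed first root -/
def chkP2 (r : ℕ) : Bool := all12 fun s => (s == r || s == chevG2.neg r) ||
  allF4 fun t => allF4 fun u =>
    eqB 416 9 (tabsOf [(s, u), (r, t), (s, u), (r, t)]) (tabsOf (chevG2.commWord F4 r s t u))

/-- (R3) multiplicativity of the `h_r(t)` -/
def chkP3 : Bool := all12 fun r => allF4 fun a => allF4 fun b => (a == 0 || b == 0) ||
  eqB 416 9 (tabsOf (chevG2.hWord r a ++ chevG2.hWord r b)) (tabsOf (chevG2.hWord r (a * b)))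

/-- all the tables are permutations -/
def chkGood : Bool := goodB 416 9 idT && Y0.all fun y => goodB 416 9 y

theorem chkGood_true : chkGood = true := by decide +kernel

theorem chkP1_true : chkP1 = true := by decide +kernel

theorem chkP3_true : chkP3 = true := by decide +kernel

end Cfsg.Agent.Helper19.J2G24
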