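import Mathlib
import Cfsg.Agent.Helper19.Schur.Basic

/-!
# Recognising a simple group through a presentation bound

If `Γ` is a finite simple group generated by `x, y` satisfying the relators `rels`, and every
group generated by two elements satisfying `rels` has order at most `#Γ`, then any two elements
`a, b`, not both trivial, of any group which satisfy `rels` generate a copy of `Γ`.
-/

set_option autoImplicit false
set_option linter.all false

namespace Cfsg.Agent.Helper19.J2G24

open Cfsg.Agent.Helper19.TCS Cfsg.Agent.Helper19.Schur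

universe u

theorem closure_pair_prod {Γ Q : Type*} [Group Γ] [Group Q] (x y : Γ) (a b : Q) :
    (Subgroup.closure ({(x, a), (y, b)} : Set (Γ × Q))).map (MonoidHom.fst Γ Q) =
      Subgroup.closure {x, y} := by
  rw [MonoidHom.map_closure, Set.image_pair]
  rfl

theorem closure_pair_prod_snd {Γ Q : Type*} [Group Γ] [Group Q] (x y : Γ) (a b : Q) :
    (Subgroup.closure ({(x, a), (y, b)} : Set (Γ × Q))).map (MonoidHom.snd Γ Q) =
      Subgroup.closure {a, b} := by
  rw [MonoidHom.map_closure, Set.image_pair]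
  rfl

theorem exists_iso_of_rels {Γ : Type} [Group Γ] [Finite Γ] [IsSimpleGroup Γ] (x y : Γ)
    (hxy : Subgroup.closure {x, y} = (⊤ : Subgroup Γ)) (rels : List (List ℕ))
    (hrelΓ : ∀ w ∈ rels, prodw (gc2 x y) w = 1)
    (hT : ∀ (Δ : Type u) [Group Δ] (a b : Δ), Subgroup.closure {a, b} = (⊤ : Subgroup Δ) →
      (∀ w ∈ rels, prodw (gc2 a b) w = 1) → Finite Δ ∧ Nat.card Δ ≤ Nat.card Γ)
    {Q : Type u} [Group Q] (a b : Q) (hrelQ : ∀ w ∈ rels, prodw (gc2 a b) w = 1)
    (hne : a ≠ 1 ∨ b ≠ 1) :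
    Nonempty (↥(Subgroup.closure ({a, b} : Set Q)) ≃* Γ) := by
  -- the diagonal subgroup
  set D : Subgroup (Γ × Q) := Subgroup.closure ({(x, a), (y, b)} : Set (Γ × Q)) with hD
  have hxa : (x, a) ∈ D := Subgroup.subset_closure (by simp)
  have hyb : (y, b) ∈ D := Subgroup.subset_closure (by simp)
  have hgenD : Subgroup.closure ({⟨(x, a), hxa⟩, ⟨(y, b), hyb⟩} : Set ↥D) = ⊤ := by
    apply Subgroup.map_injective D.subtype_injective
    rw [MonoidHom.map_closure, ← MonoidHom.range_eq_map, Subgroup.range_subtype, Set.image_pair]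
    rfl
  have hrelD : ∀ w ∈ rels, prodw (gc2 (⟨(x, a), hxa⟩ : ↥D) ⟨(y, b), hyb⟩) w = 1 := by
    intro w hw
    apply Subtype.ext
    have h := map_prodw D.subtype (⟨(x, a), hxa⟩ : ↥D) ⟨(y, b), hyb⟩ w
    rw [Subgroup.coe_subtype] at h
    rw [h]
    show prodw (gc2 ((x, a) : Γ × Q) (y, b)) w = 1
    apply Prod.ext
    · have h1 := map_prodw (MonoidHom.fst Γ Q) (x, a) (y, b) w
      rw [MonoidHom.coe_fst] at h1
      rw [h1]
      exact hrelΓ w hw
    · have h1 := map_prodw (MonoidHom.snd Γ Q) (x, a) (y, b) w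
      rw [MonoidHom.coe_snd] at h1
      rw [h1]
      exact hrelQ w hw
  obtain ⟨hfinD, hcardD⟩ := hT ↥D _ _ hgenD hrelD
  -- the first projection is bijective
  set π₁ : ↥D →* Γ := (MonoidHom.fst Γ Q).comp D.subtype with hπ₁
  set π₂ : ↥D →* Q := (MonoidHom.snd Γ Q).comp D.subtype with hπ₂
  have hsurj : Function.Surjective π₁ := by
    rw [← MonoidHom.range_eq_top, hπ₁, MonoidHom.range_eq_map, ← Subgroup.map_map,
      ← MonoidHom.range_eq_map, Subgroup.range_subtype, hD, closure_pair_prod, hxy]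
  have hinj : Function.Injective π₁ := by
    exact (hsurj.bijective_of_nat_card_le hcardD).1
  let e₁ : ↥D ≃* Γ := MulEquiv.ofBijective π₁ ⟨hinj, hsurj⟩
  -- the homomorphism from `Γ`
  let ψ : Γ →* Q := π₂.comp e₁.symm.toMonoidHom
  have hψx : ψ x = a := by
    have : e₁.symm x = ⟨(x, a), hxa⟩ := by
      rw [MulEquiv.symm_apply_eq]
      rfl
    show π₂ (e₁.symm x) = a
    rw [this]
    rfl
  have hψy : ψ y = b := by
    have : e₁.symm y = ⟨(y, b), hyb⟩ := by
      rw [MulEquiv.symm_apply_eq]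
      rfl
    show π₂ (e₁.symm y) = b
    rw [this]
    rfl
  have hψinj : Function.Injective ψ := by
    rw [← MonoidHom.ker_eq_bot_iff]
    rcases (MonoidHom.normal_ker ψ).eq_bot_or_eq_top with h | h
    · exact h
    · exfalso
      have h1 : ψ x = 1 := by rw [← MonoidHom.mem_ker, h]; trivial
      have h2 : ψ y = 1 := by rw [← MonoidHom.mem_ker, h]; trivial
      rw [hψx] at h1
      rw [hψy] at h2
      rcases hne with h3 | h3
      · exact h3 h1
      · exact h3 h2
  have hrange : ψ.range = Subgroup.closure ({a, b} : Set Q) := by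
    rw [MonoidHom.range_eq_map, ← hxy, MonoidHom.map_closure, Set.image_pair, hψx, hψy]
  exact ⟨((MonoidHom.ofInjective hψinj).trans (MulEquiv.subgroupCongr hrange)).symm⟩

end Cfsg.Agent.Helper19.J2G24
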