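import Cfsg.Agent.Helper19.J2G24.Perm

/-! The commutator relations (R2) for the permutations of the 416 cosets, by kernel evaluation. -/

set_option autoImplicit false

namespace Cfsg.Agent.Helper19.J2G24

theorem chkP2_0 : chkP2 0 = true := by decide +kernel
theorem chkP2_1 : chkP2 1 = true := by decide +kernel
theorem chkP2_2 : chkP2 2 = true := by decide +kernel
theorem chkP2_3 : chkP2 3 = true := by decide +kernel
theorem chkP2_4 : chkP2 4 = true := by decide +kernel
theorem chkP2_5 : chkP2 5 = true := by decide +kernel
theorem chkP2_6 : chkP2 6 = true := by decide +kernel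
theorem chkP2_7 : chkP2 7 = true := by decide +kernel
theorem chkP2_8 : chkP2 8 = true := by decide +kernel
theorem chkP2_9 : chkP2 9 = true := by decide +kernel
theorem chkP2_10 : chkP2 10 = true := by decide +kernel
theorem chkP2_11 : chkP2 11 = true := by decide +kernel

end Cfsg.Agent.Helper19.J2G24
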