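import Cfsg.Agent.Helper19.J2G24.Cert
import Cfsg.Agent.Helper19.J2G24.Recog
import Cfsg.Agent.Helper19.SchJ2.Inst
import Cfsg.Agent.Helper19.SchJ2.Conc

/-!
# A subgroup `J₂` in a group acting as `G₂(4)` on 416 points

`ρ : G →* Pm 416` is an injective homomorphism whose image contains the 36 generating
permutations.  We find `a, b` in `G` generating a copy of the Hall–Janko group.
-/

set_option autoImplicit false
set_option linter.all false
set_option maxRecDepth 100000

namespace Cfsg.Agent.Helper19.J2G24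

open Cfsg.Lie Cfsg.Agent.Helper19.Sp4 Cfsg.Agent.Helper22.PermPack Cfsg.Agent.Helper19.G24
open Cfsg.Agent.Helper19.TCS Cfsg.Agent.Helper19.Schur

universe u

/-! ### the tables -/

theorem good2 : ∀ y ∈ [tA, tAi, tB, sa0, sa1, sb0, sb1], Good 416 9 y := by
  intro y hy
  exact good_of_goodB (List.all_eq_true.mp chkGood2_true y hy)

theorem tA_good : Good 416 9 tA := good2 _ (by simp)
theorem tAi_good : Good 416 9 tAi := good2 _ (by simp)
theorem tB_good : Good 416 9 tB := good2 _ (by simp)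

theorem LT_good (l : ℕ) : Good 416 9 (LT l) := by
  unfold LT
  split
  · exact tA_good
  · exact tAi_good
  · exact tB_good
  · exact tB_good
  · exact idT_good

/-- the permutations of `a` and `b` -/
noncomputable def pA : Pm 416 := P 416 9 tA
noncomputable def pB : Pm 416 := P 416 9 tB

theorem pA_eq : pA = wP wa := by
  have h := chkAB_true
  unfold chkAB at h
  rw [Bool.and_eq_true] at h
  rw [wP_eq]
  exact P_eq_prod (tabsOf_good wa) tA_good (tabB_spec h.1)

theorem pB_eq : pB = wP wb := by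
  have h := chkAB_true
  unfold chkAB at h
  rw [Bool.and_eq_true] at h
  rw [wP_eq]
  exact P_eq_prod (tabsOf_good wb) tB_good (tabB_spec h.2)

theorem chkInv_spec : (∀ i < 416, slot 9 tA (slot 9 tAi i) = i) ∧
    (∀ i < 416, slot 9 tB (slot 9 tB i) = i) ∧ ¬ ∀ i < 416, slot 9 tA i = i := by
  have h := chkInv_true
  unfold chkInv at h
  rw [Bool.and_eq_true, Bool.and_eq_true, Bool.not_eq_true'] at h
  obtain ⟨⟨h1, h2⟩, h3⟩ := h
  refine ⟨fun i hi => ?_, fun i hi => ?_, fun hall => ?_⟩
  · have := tabB_spec h1 i hi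
    rw [idT_look i hi] at this
    exact this.symm
  · have := tabB_spec h2 i hi
    rw [idT_look i hi] at this
    exact this.symm
  · have h4 : tabB idT [tA] = true := by
      unfold tabB
      rw [withNat_eq, withList_eq]
      apply allN_of_forall
      intro i hi
      rw [beq_iff, idT_look i hi]
      exact (hall i hi).symm
    rw [h4] at h3
    exact absurd h3 (by decide)

theorem pAi_eq : P 416 9 tAi = pA⁻¹ := P_inv_of tA_good tAi_good chkInv_spec.1

theorem pB_inv : pB⁻¹ = pB := by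
  have h : pB * pB = 1 :=
    rep_unique (rep_mul (rep_P tB_good) (rep_P tB_good)) (rep_congr rep_one chkInv_spec.2.1)
  exact inv_eq_of_mul_eq_one_right h

theorem pA_ne_one : pA ≠ 1 := by
  intro h
  apply chkInv_spec.2.2
  intro i hi
  have h1 : Rep (slot 9 tA) pA := rep_P tA_good
  rw [h] at h1
  exact (h1 ⟨i, hi⟩).symm

theorem rep_LT (l : ℕ) : Rep (slot 9 (LT l)) (gc2 pA pB l) := by
  match l with
  | 0 => exact rep_P tA_good
  | 1 =>
    show Rep (slot 9 tAi) (pA⁻¹)
    rw [← pAi_eq]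
    exact rep_P tAi_good
  | 2 => exact rep_P tB_good
  | 3 =>
    show Rep (slot 9 tB) (pB⁻¹)
    rw [pB_inv]
    exact rep_P tB_good
  | (l + 4) =>
    show Rep (slot 9 idT) (1 : Pm 416)
    exact rep_congr rep_one idT_look

theorem rep_lookW : ∀ w : List ℕ, Rep (lookW w) (prodw (gc2 pA pB) w)
  | [] => rep_one
  | l :: w => rep_congr (rep_mul (rep_lookW w) (rep_LT l)) (fun _ _ => rfl)

theorem rels_perm : ∀ w ∈ Cfsg.Agent.Helper19.SchJ2.rels, prodw (gc2 pA pB) w = 1 := by
  intro w hw
  have h := List.all_eq_true.mp chkRels_true w hw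
  rw [Bool.and_eq_true] at h
  apply rep_unique (rep_lookW w)
  apply rep_congr rep_one
  intro i hi
  exact beq_iff.mp (allN_spec h.2 i hi)

theorem P_LT_mem (l : ℕ) : P 416 9 (LT l) ∈ Subgroup.closure ({pA, pB} : Set (Pm 416)) := by
  have hA : pA ∈ Subgroup.closure ({pA, pB} : Set (Pm 416)) := Subgroup.subset_closure (by simp)
  have hB : pB ∈ Subgroup.closure ({pA, pB} : Set (Pm 416)) := Subgroup.subset_closure (by simp)
  unfold LT
  split
  · exact hA
  · rw [pAi_eq]
    exact inv_mem hA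
  · exact hB
  · exact hB
  · rw [P_idT_eq]
    exact one_mem _

/-- the permutation of a table which is a word in `a`, `b` lies in the group they generate -/
theorem P_mem_of_tabB {s : ℕ} (hs : Good 416 9 s) {w : List ℕ} (h : tabB s (w.map LT) = true) :
    P 416 9 s ∈ Subgroup.closure ({pA, pB} : Set (Pm 416)) := by
  have hg : ∀ t ∈ w.map LT, Good 416 9 t := by
    intro t ht
    rw [List.mem_map] at ht
    obtain ⟨l, -, rfl⟩ := ht
    exact LT_good l
  rw [P_eq_prod hg hs (tabB_spec h)]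
  apply Subgroup.list_prod_mem
  intro g hg'
  rw [List.mem_map] at hg'
  obtain ⟨t, ht, rfl⟩ := hg'
  rw [List.mem_map] at ht
  obtain ⟨l, -, rfl⟩ := ht
  exact P_LT_mem l

theorem Grp_AB_le : Grp 416 9 [tA, tB] ≤ Subgroup.closure ({pA, pB} : Set (Pm 416)) := by
  unfold Grp
  rw [Subgroup.closure_le]
  rintro g ⟨y, hy, rfl⟩
  simp only [List.mem_cons, List.not_mem_nil, or_false] at hy
  rcases hy with rfl | rfl
  · exact Subgroup.subset_closure (by simp [pA])
  · exact Subgroup.subset_closure (by simp [pB])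

theorem Grp_sa_le : Grp 416 9 [sa0, sa1] ≤ Subgroup.closure ({pA, pB} : Set (Pm 416)) := by
  have h := chkS_true
  unfold chkS at h
  simp only [Bool.and_eq_true] at h
  unfold Grp
  rw [Subgroup.closure_le]
  rintro g ⟨y, hy, rfl⟩
  simp only [List.mem_cons, List.not_mem_nil, or_false] at hy
  rcases hy with rfl | rfl
  · exact P_mem_of_tabB (good2 _ (by simp)) h.1.1.1
  · exact P_mem_of_tabB (good2 _ (by simp)) h.1.1.2

theorem Grp_sb_le : Grp 416 9 [sb0, sb1] ≤ Subgroup.closure ({pA, pB} : Set (Pm 416)) := by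
  have h := chkS_true
  unfold chkS at h
  simp only [Bool.and_eq_true] at h
  unfold Grp
  rw [Subgroup.closure_le]
  rintro g ⟨y, hy, rfl⟩
  simp only [List.mem_cons, List.not_mem_nil, or_false] at hy
  rcases hy with rfl | rfl
  · exact P_mem_of_tabB (good2 _ (by simp)) h.1.2
  · exact P_mem_of_tabB (good2 _ (by simp)) h.2

/-! ### the abstract group -/

section

variable {G : Type u} [Group G] (ρ : G →* Pm 416) (hgen : ∀ y ∈ Y0, P 416 9 y ∈ ρ.range)

include hgen

theorem PX_mem_range (r : ℕ) (t : F4) : PX r t ∈ ρ.range := by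
  by_cases hr : r < 12
  · by_cases ht : t = F4.o
    · have : PX r t = 1 := by
        rw [ht]
        exact PX_zero r
      rw [this]
      exact one_mem _
    · exact hgen _ (tab_mem_Y0 hr ht)
  · rw [PX_of_ge hr]
    exact one_mem _

theorem wP_mem_range (w : List (ℕ × F4)) : wP w ∈ ρ.range := by
  unfold wP
  apply Subgroup.list_prod_mem
  intro g hg
  rw [List.mem_map] at hg
  obtain ⟨p, -, rfl⟩ := hg
  exact PX_mem_range ρ hgen _ _

theorem exists_ab : ∃ a b : G, ρ a = pA ∧ ρ b = pB := by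
  obtain ⟨a, ha⟩ := (pA_eq ▸ wP_mem_range ρ hgen wa : pA ∈ ρ.range)
  obtain ⟨b, hb⟩ := (pB_eq ▸ wP_mem_range ρ hgen wb : pB ∈ ρ.range)
  exact ⟨a, b, ha, hb⟩

theorem Grp0_le : Grp 416 9 Y0 ≤ ρ.range := by
  unfold Grp
  rw [Subgroup.closure_le]
  rintro g ⟨y, hy, rfl⟩
  exact hgen y hy

end

section

variable {G : Type u} [Group G] (ρ : G →* Pm 416) (hinj : Function.Injective ρ)
  {a b : G} (ha : ρ a = pA) (hb : ρ b = pB)

include hinj ha hb

theorem rels_G : ∀ w ∈ Cfsg.Agent.Helper19.SchJ2.rels, prodw (gc2 a b) w = 1 := by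
  intro w hw
  apply hinj
  rw [map_prodw, ha, hb, map_one]
  exact rels_perm w hw

theorem a_ne_one : a ≠ 1 := by
  intro h
  apply pA_ne_one
  rw [← ha, h, map_one]

/-- the subgroup generated by `a`, `b` is a copy of the Hall–Janko group -/
theorem isoJ2_closure : Cfsg.Spor.IsoJ2 ↥(Subgroup.closure ({a, b} : Set G)) := by
  haveI : Finite ↥Cfsg.Agent.Helper22.IcoGroup.G :=
    Nat.finite_of_card_ne_zero (by rw [Cfsg.Agent.Helper22.IcoGroup.card_G]; norm_num)
  haveI := Cfsg.Agent.Helper22.IcoGroup.simple_G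
  obtain ⟨e⟩ := exists_iso_of_rels Cfsg.Agent.Helper19.SchJ2.xG Cfsg.Agent.Helper19.SchJ2.yG
    Cfsg.Agent.Helper19.SchJ2.G_closure Cfsg.Agent.Helper19.SchJ2.rels
    Cfsg.Agent.Helper19.SchJ2.hrelG
    (fun Δ _ a' b' h1 h2 => by
      rw [Cfsg.Agent.Helper22.IcoGroup.card_G]
      exact Cfsg.Agent.Helper19.SchJ2.hT1 Δ a' b' h1 h2)
    a b (rels_G ρ hinj ha hb) (Or.inl (a_ne_one ρ hinj ha hb))
  exact ⟨e.trans Cfsg.Agent.Helper22.Ico.J2iso.symm⟩

/-- every element of the group of the tables of `a`, `b` comes from the subgroup generated by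
`a`, `b` -/
theorem lift_closure : ∀ g ∈ Subgroup.closure ({pA, pB} : Set (Pm 416)),
    ∃ h ∈ Subgroup.closure ({a, b} : Set G), ρ h = g := by
  have hle : Subgroup.closure ({pA, pB} : Set (Pm 416)) ≤
      (Subgroup.closure ({a, b} : Set G)).map ρ := by
    rw [Subgroup.closure_le]
    rintro g hg
    simp only [Set.mem_insert_iff, Set.mem_singleton_iff] at hg
    rcases hg with rfl | rfl
    · exact ⟨a, Subgroup.subset_closure (by simp), ha⟩
    · exact ⟨b, Subgroup.subset_closure (by simp), hb⟩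
  intro g hg
  obtain ⟨h, hh, hhg⟩ := hle hg
  exact ⟨h, hh, hhg⟩

end

end Cfsg.Agent.Helper19.J2G24
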